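import Mathlib
import Groth.Prelude.Def_EGA41

/-! helper7: power series rings in finitely many variables are formally smooth for the adic topologies (truncation to polynomials modulo a power of the variables, evaluation at nilpotent elements). -/

set_option autoImplicit false
set_option linter.style.haveILetI false
set_option linter.unusedVariables false
set_option linter.unusedSectionVars false

universe u

open MvPowerSeries

namespace Groth.Agent.Helper7.PSSmooth

variable (A : Type u) [CommRing A] (n : ℕ)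

/-- The ideal of `A[[T]]` generated by the variables. -/
noncomputable abbrev IB : Ideal (MvPowerSeries (Fin n) A) :=
  Ideal.span (Set.range (MvPowerSeries.X : Fin n → MvPowerSeries (Fin n) A))

/-- Lemma P: a power series with no terms of degree `< K` lies in the `K`-th power of the ideal
generated by the variables. -/
theorem mem_pow_of_coeff_eq_zero (K : ℕ) (r : MvPowerSeries (Fin n) A)
    (hr : ∀ x : Fin n →₀ ℕ, x.degree < K → MvPowerSeries.coeff x r = 0) :
    r ∈ (IB A n) ^ K := by
  let P := MvPolynomial (Fin n) A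
  let 𝔭 : Ideal P := MvPolynomial.idealOfVars (Fin n) A
  let e := MvPowerSeries.toAdicCompletionAlgEquiv (Fin n) A
  have htr : MvPowerSeries.truncTotal K r = 0 := by
    ext x
    rw [MvPolynomial.coeff_zero]
    by_cases hx : x.degree < K
    · rw [MvPowerSeries.coeff_truncTotal _ hx, hr x hx]
    · rw [MvPowerSeries.coeff_truncTotal_eq_zero _ (not_lt.mp hx)]
  have h1 : e r ∈ LinearMap.ker (AdicCompletion.eval 𝔭 P K) := by
    rw [LinearMap.mem_ker, AdicCompletion.eval_apply]
    show (MvPowerSeries.toAdicCompletion (Fin n) A r).val K = 0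
    rw [MvPowerSeries.toAdicCompletion_apply_eq_mk_truncTotal, htr, map_zero]
  rw [← AdicCompletion.pow_smul_top_eq_ker_eval (MvPolynomial.idealOfVars_fg (Fin n) A)] at h1
  have h2 : (𝔭 ^ K • ⊤ : Submodule P (AdicCompletion 𝔭 P)) ≤
      Submodule.comap e.symm.toLinearMap (((IB A n) ^ K).restrictScalars P) := by
    rw [Submodule.smul_le]
    intro p hp x _
    rw [Submodule.mem_comap, map_smul, Submodule.restrictScalars_mem, Algebra.smul_def]
    refine Ideal.mul_mem_right _ _ ?_
    have h3 : algebraMap P (MvPowerSeries (Fin n) A) p ∈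
        (𝔭 ^ K).map (algebraMap P (MvPowerSeries (Fin n) A)) := Ideal.mem_map_of_mem _ hp
    rw [Ideal.map_pow] at h3
    refine Ideal.pow_right_mono ?_ K h3
    rw [Ideal.map_le_iff_le_comap]
    show MvPolynomial.idealOfVars (Fin n) A ≤ _
    rw [MvPolynomial.idealOfVars, Ideal.span_le]
    rintro _ ⟨i, rfl⟩
    rw [SetLike.mem_coe, Ideal.mem_comap]
    have : algebraMap P (MvPowerSeries (Fin n) A) (MvPolynomial.X i) = MvPowerSeries.X i := by
      show ((MvPolynomial.X i : MvPolynomial (Fin n) A) : MvPowerSeries (Fin n) A) = _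
      exact MvPolynomial.coe_X i
    rw [this]
    exact Ideal.subset_span ⟨i, rfl⟩
  have h4 := h2 h1
  rw [Submodule.mem_comap, Submodule.restrictScalars_mem] at h4
  have h5 : e.symm.toLinearMap (e r) = r := e.symm_apply_apply r
  rwa [h5] at h4

theorem main (𝔞 : Ideal A) :
    EGA41.IsFormallySmoothAdic A 𝔞 (MvPowerSeries (Fin n) A)
      (𝔞.map (MvPowerSeries.C : A →+* MvPowerSeries (Fin n) A) ⊔
        RingHom.ker (MvPowerSeries.constantCoeff : MvPowerSeries (Fin n) A →+* A)) := by
  intro C _ _ J hJ _ u hu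
  obtain ⟨N, hN⟩ := hJ
  obtain ⟨k', hk'⟩ := hu
  set 𝔟 : Ideal (MvPowerSeries (Fin n) A) :=
    𝔞.map (MvPowerSeries.C : A →+* MvPowerSeries (Fin n) A) ⊔
      RingHom.ker (MvPowerSeries.constantCoeff : MvPowerSeries (Fin n) A →+* A) with h𝔟
  have hX : ∀ i, (MvPowerSeries.X i : MvPowerSeries (Fin n) A) ∈ 𝔟 := fun i =>
    Ideal.mem_sup_right (by rw [RingHom.mem_ker, MvPowerSeries.constantCoeff_X])
  have hIB : IB A n ≤ 𝔟 := Ideal.span_le.mpr (by rintro _ ⟨i, rfl⟩; exact hX i)
  choose t ht using fun i : Fin n => Ideal.Quotient.mk_surjective (u (MvPowerSeries.X i))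
  have htnil : ∀ i, t i ^ (k' * N) = 0 := by
    intro i
    have h1 : u (MvPowerSeries.X i) ^ k' = 0 := by
      rw [← map_pow]
      exact hk' _ (Ideal.pow_mem_pow (hX i) k')
    have h2 : t i ^ k' ∈ J := by
      rw [← Ideal.Quotient.eq_zero_iff_mem, map_pow, ht, h1]
    have h3 : (t i ^ k') ^ N ∈ J ^ N := Ideal.pow_mem_pow h2 N
    rw [hN] at h3
    rw [pow_mul]
    exact h3
  set N₀ := k' * N with hN₀
  set K := n * N₀ + k' + 1 with hK
  have hmon : ∀ x : Fin n →₀ ℕ, K ≤ x.degree → x.prod (fun i e => t i ^ e) = 0 := by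
    intro x hx
    by_contra hne
    have hlt : ∀ i, x i ≤ N₀ := by
      intro i
      by_contra hi
      rw [not_le] at hi
      apply hne
      rw [Finsupp.prod_fintype _ _ (fun i => pow_zero _)]
      apply Finset.prod_eq_zero (Finset.mem_univ i)
      rw [← Nat.sub_add_cancel hi.le, pow_add, htnil i, mul_zero]
    have hdeg : x.degree ≤ n * N₀ := by
      rw [Finsupp.degree_eq_sum]
      calc ∑ i, x i ≤ ∑ _i : Fin n, N₀ := Finset.sum_le_sum (fun i _ => hlt i)
        _ = n * N₀ := by rw [Finset.sum_const, Finset.card_univ, Fintype.card_fin, smul_eq_mul]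
    omega
  let P := MvPolynomial (Fin n) A
  let 𝔭 : Ideal P := MvPolynomial.idealOfVars (Fin n) A
  let φ : P →ₐ[A] C := MvPolynomial.aeval t
  have hφ : ∀ p ∈ 𝔭 ^ K, φ p = 0 := by
    intro p hp
    rw [MvPolynomial.mem_pow_idealOfVars_iff] at hp
    show MvPolynomial.aeval t p = 0
    rw [MvPolynomial.aeval_def, MvPolynomial.eval₂_eq]
    apply Finset.sum_eq_zero
    intro x hx
    have h1 := hmon x (hp x hx)
    rw [show ∏ i ∈ x.support, t i ^ x i = x.prod (fun i e => t i ^ e) from rfl, h1, mul_zero]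
  let v : MvPowerSeries (Fin n) A →ₐ[A] C :=
    (Ideal.Quotient.liftₐ (𝔭 ^ K) φ hφ).comp
      ((MvPowerSeries.truncTotalAlgHom (Fin n) A K).restrictScalars A)
  refine ⟨v, ?_⟩
  have hψ : (Ideal.Quotient.mkₐ A J).comp φ =
      u.comp (IsScalarTower.toAlgHom A P (MvPowerSeries (Fin n) A)) := by
    apply MvPolynomial.algHom_ext
    intro i
    show Ideal.Quotient.mk J (MvPolynomial.aeval t (MvPolynomial.X i)) =
      u (((MvPolynomial.X i : MvPolynomial (Fin n) A) : MvPowerSeries (Fin n) A))
    rw [MvPolynomial.aeval_X, ht, MvPolynomial.coe_X]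
  refine AlgHom.ext fun f => ?_
  have hr : f - ((MvPowerSeries.truncTotal K f : MvPolynomial (Fin n) A) :
      MvPowerSeries (Fin n) A) ∈ 𝔟 ^ k' := by
    apply Ideal.pow_le_pow_right (show k' ≤ K by omega)
    apply Ideal.pow_right_mono hIB K
    apply mem_pow_of_coeff_eq_zero
    intro x hx
    rw [map_sub, MvPolynomial.coeff_coe, MvPowerSeries.coeff_truncTotal _ hx, sub_self]
  have h2 := hk' _ hr
  rw [map_sub, sub_eq_zero] at h2
  rw [h2]
  exact congrArg (fun ψ => ψ (MvPowerSeries.truncTotal K f)) hψ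

end Groth.Agent.Helper7.PSSmooth
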